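import Cfsg.Agent.H89.Cov.Forms
import Cfsg.Agent.H659.CovCore
import Cfsg.Agent.H925.NatConj
import Cfsg.Agent.H905.SLProper3

/-!
# S2499 (normal 2-coverings): irreducible proper subgroups of `Ω(Q)` with an element of large primitive order

* `symp_quad_false` : the isometries of a symplectic form do not all preserve a non-degenerate quadratic form;
* `unit_quad_false` : the determinant-one isometries of a unitary form do not preserve a quadratic form;
* `og_o`            : **OG-O**.
-/

set_option autoImplicit false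
set_option linter.unusedSectionVars false

namespace Cfsg.Agent.H558.Cov

open Cfsg Cfsg.Geo Matrix QuadraticMap Cfsg.Agent.H929 Cfsg.Agent.H873 Cfsg.Agent.H278.Cov Cfsg.Agent.H89.Cov
open scoped MatrixGroups

universe u

variable {ι : Type} [Fintype ι] [DecidableEq ι] {F : Type u} [Field F]

theorem exists_not_mem_span2 (hn : 3 ≤ Fintype.card ι) (u v : ι → F) :
    ∃ y : ι → F, ∀ a b : F, y ≠ a • u + b • v := by
  classical
  by_contra hcon
  push Not at hcon
  have h1 : Submodule.span F (({u, v} : Finset (ι → F)) : Set (ι → F)) = ⊤ := by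
    rw [eq_top_iff]
    intro y _
    obtain ⟨a, b, rfl⟩ := hcon y
    refine Submodule.add_mem _ (Submodule.smul_mem _ _ (Submodule.subset_span ?_))
      (Submodule.smul_mem _ _ (Submodule.subset_span ?_))
    · simp
    · simp
  have h2 := finrank_span_finset_le_card (R := F) ({u, v} : Finset (ι → F))
  rw [Set.finrank, h1, finrank_top, Module.finrank_fintype_fun_eq_card] at h2
  have h3 : ({u, v} : Finset (ι → F)).card ≤ 2 := Finset.card_le_two
  omega

section

variable {Q : (ι → F) → F}

theorem quad_add (Q : (ι → F) → F) (u v : ι → F) : Q (u + v) = Q u + Q v + polar Q u v := by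
  rw [polar]; ring

/-- **the isometries of a symplectic form do not all preserve a non-degenerate quadratic form** -/
theorem symp_quad_false (hn : 3 ≤ Fintype.card ι) (hQ : IsNondegenerateQuadraticForm Q)
    {f : (ι → F) → (ι → F) → F} (hf : IsSymplecticForm f)
    (h : ∀ x : GL ι F, FixesForm {(x : Matrix ι ι F)} f → ∀ v, Q ((x : Matrix ι ι F) *ᵥ v) = Q v) : False := by
  have hB := hQ.polar_bilinear
  have hb := hf.bilinear
  -- the transvections
  have h1 : ∀ x w : ι → F, f x w = 1 → polar Q x w = - Q w := by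
    intro x w hxw
    have hdot : ∀ u, cv f w ⬝ᵥ u = f u w := cv_dot hb.add_left hb.smul_left w
    have h0 : cv f w ⬝ᵥ w = 0 := by rw [hdot, hf.alternating]
    have h2 : FixesForm {(tv w (cv f w) h0 : Matrix ι ι F)} f := by
      rw [fixesForm_singleton]
      intro u v
      rw [tv_mulVec, tv_mulVec, hdot, hdot, hb.add_left, hb.add_right, hb.add_right, hb.smul_left, hb.smul_left,
        hb.smul_right, hb.smul_right, hf.alternating, hf.skew w v]
      ring
    have h3 := h _ h2 x
    rw [tv_mulVec, hdot, hxw, one_smul, quad_add Q] at h3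
    linear_combination h3
  have h2 : ∀ x w : ι → F, f x w = 1 → polar Q x w = Q x := by
    intro x w hxw
    have h3 : f w (-x) = 1 := by
      have h4 : f w (-x) = - f w x := by
        have := hb.smul_right (-1) w x
        rwa [neg_one_smul, neg_one_mul] at this
      rw [h4, hf.skew w x, hxw, neg_neg]
    have h5 := h1 w (-x) h3
    have h6 : Q (-x) = Q x := by
      have := hQ.smul (-1) x
      rw [neg_one_smul] at this
      rw [this]; ring
    have h7 : polar Q w (-x) = - polar Q w x := by
      have := hB.smul_right (-1) w x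
      rwa [neg_one_smul, neg_one_mul] at this
    rw [h6, h7] at h5
    rw [polar_comm]
    exact neg_injective h5
  -- a hyperbolic pair
  obtain ⟨i⟩ : Nonempty ι := Fintype.card_pos_iff.1 (by omega)
  have hi0 : (Pi.single i 1 : ι → F) ≠ 0 := by
    intro h0
    have := congrFun h0 i
    simp at this
  have hyp : ∀ w : ι → F, w ≠ 0 → ∃ x, f x w = 1 := by
    intro w hw
    obtain ⟨x, hx⟩ := (hf.nondegenerate w hw).1
    exact ⟨(f x w)⁻¹ • x, by rw [hb.smul_left, inv_mul_cancel₀ hx]⟩
  -- for a hyperbolic pair: `Q` vanishes on the perp, and the perp is polar-orthogonal to the pair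
  have h3 : ∀ x w u : ι → F, f x w = 1 → f u w = 0 → f x u = 0 → polar Q u w = 0 ∧ polar Q x u = 0 ∧ Q u = 0 := by
    intro x w u hxw huw hxu
    have e1 : f (x + u) w = 1 := by rw [hb.add_left, hxw, huw, add_zero]
    have e2 : f x (w + u) = 1 := by rw [hb.add_right, hxw, hxu, add_zero]
    have a1 := h1 _ _ e1
    have a2 := h2 _ _ e2
    have a3 := h1 _ _ hxw
    have a4 := h2 _ _ hxw
    have a5 := h2 _ _ e1
    rw [hB.add_left] at a1 a5
    rw [hB.add_right] at a2
    have b1 : polar Q u w = 0 := by linear_combination a1 - a3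
    have b2 : polar Q x u = 0 := by linear_combination a2 - a4
    refine ⟨b1, b2, ?_⟩
    rw [quad_add Q, b2] at a5
    linear_combination a4 - a5 + b1
  set w : ι → F := Pi.single i 1 with hw
  obtain ⟨x, hxw⟩ := hyp w hi0
  have hwx : f w x = -1 := by rw [hf.skew, hxw]
  obtain ⟨y, hy⟩ := exists_not_mem_span2 hn x w
  -- the projection to the perp
  have hproj : ∀ y : ι → F, f (y - f y w • x + f y x • w) w = 0 ∧ f x (y - f y w • x + f y x • w) = 0 := by
    intro y
    have e1 : f (y - f y w • x + f y x • w) w = 0 := by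
      rw [sub_eq_add_neg, ← neg_smul, hb.add_left, hb.add_left, hb.smul_left, hb.smul_left, hxw, hf.alternating]
      ring
    have e2 : f (y - f y w • x + f y x • w) x = 0 := by
      rw [sub_eq_add_neg, ← neg_smul, hb.add_left, hb.add_left, hb.smul_left, hb.smul_left, hwx, hf.alternating]
      ring
    exact ⟨e1, by rw [hf.skew, e2, neg_zero]⟩
  set u := y - f y w • x + f y x • w with hu
  have hu0 : u ≠ 0 := by
    intro h0
    apply hy (f y w) (-(f y x))
    rw [neg_smul, ← sub_eq_zero, ← h0, hu]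
    abel
  obtain ⟨huw, hxu⟩ := hproj y
  obtain ⟨z, hz⟩ := hyp u hu0
  set v := z - f z w • x + f z x • w with hv
  obtain ⟨hvw, hxv⟩ := hproj z
  have hwu : f w u = 0 := by rw [hf.skew, huw, neg_zero]
  have hvu : f v u = 1 := by
    rw [hv, sub_eq_add_neg, ← neg_smul, hb.add_left, hb.add_left, hb.smul_left, hb.smul_left, hz, hxu, hwu]
    ring
  -- `x, w` lie in the perp of the pair `v, u`
  have hvx : f v x = 0 := by rw [hf.skew, hxv, neg_zero]
  have hvw' : f v w = 0 := hvw
  obtain ⟨-, -, hQx⟩ := h3 v u x hvu hxu hvx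
  have hpxw : polar Q x w = 0 := by rw [h2 x w hxw, hQx]
  have hx0 : x ≠ 0 := by
    rintro rfl
    have h4 : f 0 w = 0 := by
      have := hb.smul_left 0 0 w
      rwa [zero_smul, zero_mul] at this
    rw [h4] at hxw
    exact zero_ne_one hxw
  obtain ⟨-, ⟨t, ht⟩⟩ := hQ.nondegenerate x hx0
  apply ht
  obtain ⟨ht1, ht2⟩ := hproj t
  obtain ⟨-, h5, -⟩ := h3 x w _ hxw ht1 ht2
  have hxx : polar Q x x = 0 := by
    have e1 : Q (x + x) = 2 ^ 2 * Q x := by rw [← two_smul F x, hQ.smul]
    rw [polar, e1, hQx]; ring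
  have h6 : polar Q x t = polar Q x (t - f t w • x + f t x • w) + f t w * polar Q x x - f t x * polar Q x w := by
    rw [sub_eq_add_neg t, ← neg_smul, hB.add_right, hB.add_right, hB.smul_right, hB.smul_right]
    ring
  rw [h6, h5, hxx, hpxw]
  ring

/-- **the determinant-one isometries of a unitary form do not preserve a non-degenerate quadratic form** -/
theorem unit_quad_false [Finite F] (hn : 3 ≤ Fintype.card ι) (hQ : IsNondegenerateQuadraticForm Q) {σ : F ≃+* F}
    {f : (ι → F) → (ι → F) → F} (hf : IsUnitaryForm σ f)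
    (h : ∀ x : GL ι F, FixesForm {(x : Matrix ι ι F)} f → Matrix.GeneralLinearGroup.det x = 1 →
      ∀ v, Q ((x : Matrix ι ι F) *ᵥ v) = Q v) : False := by
  have hB := hQ.polar_bilinear
  have hF := Herm.of_unitary hf
  obtain ⟨e, he0, he⟩ := exists_trace_zero hf.involutive hf.ne_refl
  have hB0 : ∀ x, polar Q x (0 : ι → F) = 0 := fun x => by
    have := hB.smul_right 0 x 0
    rwa [zero_smul, zero_mul] at this
  -- the transvections
  have star0 : ∀ x w : ι → F, f w w = 0 → f x w ≠ 0 → polar Q x w = - (e * Q w * f x w) := by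
    intro x w hw hxw
    have hdot : ∀ u, cv f w ⬝ᵥ u = f u w := cv_dot hf.add_left hf.smul_left w
    have h0 : cv f w ⬝ᵥ (e • w) = 0 := by rw [hdot, hf.smul_left, hw, mul_zero]
    have h1 : FixesForm {(tv (e • w) (cv f w) h0 : Matrix ι ι F)} f := by
      rw [fixesForm_singleton]
      intro x y
      rw [tv_mulVec, tv_mulVec, hdot, hdot, hF.add_left, hF.add_right, hF.add_right,
        hF.smul_left, hF.smul_left, hF.smul_left, hF.smul_left, hF.smul_right, hF.smul_right,
        hF.smul_right, hF.smul_right, hw, he, hF.herm w y]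
      ring
    have hdet : Matrix.GeneralLinearGroup.det (tv (e • w) (cv f w) h0) = 1 := by
      have h2 := tv_mem_specialLinear _ _ h0
      rw [mem_specialLinear_iff] at h2
      apply Units.ext
      exact h2
    have h3 := h _ h1 hdet x
    rw [tv_mulVec, hdot, smul_smul, quad_add Q, hQ.smul, hB.smul_right] at h3
    have h4 : (f x w * e) * (polar Q x w + e * Q w * f x w) = 0 := by linear_combination h3
    rcases mul_eq_zero.1 h4 with h5 | h5
    · exact absurd h5 (mul_ne_zero hxw he0)
    · linear_combination h5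
  have star : ∀ x w : ι → F, w ≠ 0 → f w w = 0 → polar Q x w = - (e * Q w * f x w) := by
    intro x w hw0 hw
    by_cases hxw : f x w = 0
    · obtain ⟨y, hy⟩ := (hf.nondegenerate w hw0).1
      have h1 := star0 y w hw hy
      have h2 := star0 (x + y) w hw (by rw [hf.add_left, hxw, zero_add]; exact hy)
      rw [hB.add_left, hf.add_left, hxw, zero_add] at h2
      rw [hxw]
      linear_combination h2 - h1
    · exact star0 x w hw hxw
  have hQne : ∀ w : ι → F, w ≠ 0 → f w w = 0 → Q w ≠ 0 := by
    intro w hw0 hw hQw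
    obtain ⟨⟨x, hx⟩, -⟩ := hQ.nondegenerate w hw0
    apply hx
    rw [star x w hw0 hw, hQw]
    ring
  -- a hyperbolic pair
  obtain ⟨i⟩ : Nonempty ι := Fintype.card_pos_iff.1 (by omega)
  have hi0 : (Pi.single i 1 : ι → F) ≠ 0 := by
    intro h0
    have := congrFun h0 i
    simp at this
  have h2' : ∀ v ∈ (⊤ : Submodule F (ι → F)), ∃ x ∈ (⊤ : Submodule F (ι → F)), ∀ c : F, x ≠ c • v := by
    intro v _
    obtain ⟨x, hx⟩ := exists_not_smul (by omega : 2 ≤ Fintype.card ι) v
    exact ⟨x, trivial, hx⟩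
  have hnd' : ∀ x ∈ (⊤ : Submodule F (ι → F)), x ≠ 0 → ∃ y ∈ (⊤ : Submodule F (ι → F)), f x y ≠ 0 := by
    intro x _ hx
    obtain ⟨y, hy⟩ := (hf.nondegenerate x hx).2
    exact ⟨y, trivial, hy⟩
  obtain ⟨u, -, huu, hu⟩ := hF.exists_isotropic_not_orth hf.ne_refl ⊤ hnd' h2' (v := Pi.single i 1) trivial hi0
  have hu0 : u ≠ 0 := by
    rintro rfl
    rw [hF.zero_right] at hu
    exact hu rfl
  obtain ⟨v, -, hvv, huv⟩ := hF.exists_hyperbolic hf.ne_refl ⊤ hnd' trivial hu0 huu
  have hvu : f v u = 1 := by rw [hf.herm, huv, map_one]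
  have hv0 : v ≠ 0 := by
    rintro rfl
    rw [hF.zero_right] at huv
    exact zero_ne_one huv
  -- the perp of the pair
  let H : Submodule F (ι → F) :=
    { carrier := {x | f x u = 0 ∧ f x v = 0}
      add_mem' := fun {a b} ha hb => ⟨by rw [hf.add_left, ha.1, hb.1, add_zero], by rw [hf.add_left, ha.2, hb.2, add_zero]⟩
      zero_mem' := ⟨hF.zero_left u, hF.zero_left v⟩
      smul_mem' := fun c a ha => ⟨by rw [hf.smul_left, ha.1, mul_zero], by rw [hf.smul_left, ha.2, mul_zero]⟩ }
  have hproj : ∀ y : ι → F, y - f y v • u - f y u • v ∈ H := by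
    intro y
    refine ⟨?_, ?_⟩
    · rw [hF.sub_left, hF.sub_left, hF.smul_left, hF.smul_left, huu, hvu]; ring
    · rw [hF.sub_left, hF.sub_left, hF.smul_left, hF.smul_left, huv, hvv]; ring
  have hndH : ∀ x ∈ H, x ≠ 0 → ∃ y ∈ H, f x y ≠ 0 := by
    intro x hx hx0
    obtain ⟨y, hy⟩ := (hf.nondegenerate x hx0).2
    refine ⟨_, hproj y, ?_⟩
    rw [hF.sub_right, hF.sub_right, hF.smul_right, hF.smul_right, hx.1, hx.2]
    simpa using hy
  obtain ⟨y, hy⟩ := exists_not_mem_span2 hn u v
  set z := y - f y v • u - f y u • v with hz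
  have hz0 : z ≠ 0 := by
    intro h0
    apply hy (f y v) (f y u)
    rw [hz] at h0
    rw [← sub_eq_zero, ← h0]
    abel
  obtain ⟨r, ⟨hru, hrv⟩, hrr⟩ := hF.exists_nonisotropic hf.ne_refl H hndH (hproj y) hz0
  have hur : f u r = 0 := by rw [hf.herm, hru, map_zero]
  have hvr : f v r = 0 := by rw [hf.herm, hrv, map_zero]
  obtain ⟨t₁, ht₁⟩ := exists_trace_one hf.involutive hf.ne_refl
  set t := -(f r r) * t₁ with ht
  have htt : t + σ t = - f r r := by
    rw [ht, map_mul, map_neg, hF.self_fixed]
    linear_combination (-(f r r)) * ht₁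
  -- hyperbolic pairs
  have hL : ∀ a b : ι → F, a ≠ 0 → b ≠ 0 → f a a = 0 → f b b = 0 → f a b = 1 → Q b = - Q a := by
    intro a b ha0 hb0 haa hbb hab
    have hba : f b a = 1 := by rw [hf.herm, hab, map_one]
    have hw : f (a + e • b) (a + e • b) = 0 := by
      rw [hF.add_left, hF.add_right, hF.add_right, hF.smul_left, hF.smul_left, hF.smul_right, hF.smul_right, haa, hbb,
        hab, hba, he]
      ring
    have hw0 : a + e • b ≠ 0 := by
      intro h0
      have h1 : f (a + e • b) b = 1 := by rw [hF.add_left, hF.smul_left, hab, hbb, mul_zero, add_zero]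
      rw [h0, hF.zero_left] at h1
      exact zero_ne_one h1
    have s1 := star b _ hw0 hw
    have s2 := star a _ hw0 hw
    rw [hB.add_right, hB.smul_right, star b a ha0 haa, star b b hb0 hbb, hF.add_right, hF.smul_right, hba, hbb] at s1
    rw [hB.add_right, hB.smul_right, star a a ha0 haa, star a b hb0 hbb, hF.add_right, hF.smul_right, haa, hab, he] at s2
    have s3 : e * (Q a - Q (a + e • b)) = 0 := by linear_combination -s1
    have s4 : (e * e) * (Q b + Q (a + e • b)) = 0 := by linear_combination -s2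
    have s5 := (mul_eq_zero.1 s3).resolve_left he0
    have s6 := (mul_eq_zero.1 s4).resolve_left (mul_ne_zero he0 he0)
    linear_combination s5 + s6
  have hQv : Q v = - Q u := hL u v hu0 hv0 huu hvv huv
  -- the two further isotropic vectors
  have p1 : f (v + r + t • u) (v + r + t • u) = 0 := by
    simp only [hF.add_left, hF.add_right, hF.smul_left, hF.smul_right, huu, hvv, huv, hvu, hru, hrv, hur, hvr]
    linear_combination htt
  have p2 : f u (v + r + t • u) = 1 := by
    rw [hF.add_right, hF.add_right, hF.smul_right, huv, hur, huu]; ring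
  have p3 : v + r + t • u ≠ 0 := by
    intro h0
    rw [h0, hF.zero_right] at p2
    exact zero_ne_one p2
  have q1 : f (u + r + t • v) (u + r + t • v) = 0 := by
    simp only [hF.add_left, hF.add_right, hF.smul_left, hF.smul_right, huu, hvv, huv, hvu, hru, hrv, hur, hvr]
    linear_combination htt
  have q2 : f v (u + r + t • v) = 1 := by
    rw [hF.add_right, hF.add_right, hF.smul_right, hvu, hvr, hvv]; ring
  have q3 : u + r + t • v ≠ 0 := by
    intro h0
    rw [h0, hF.zero_right] at q2
    exact zero_ne_one q2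
  have p4 := hL _ _ hu0 p3 huu p1 p2
  have q4 := hL _ _ hv0 q3 hvv q1 q2
  have p5 := star v _ p3 p1
  have q5 := star v _ q3 q1
  rw [hB.add_right, hB.add_right, hB.smul_right, star v v hv0 hvv, star v u hu0 huu, p4, hF.add_right, hF.add_right,
    hF.smul_right, hvv, hvr, hvu] at p5
  rw [hB.add_right, hB.add_right, hB.smul_right, star v v hv0 hvv, star v u hu0 huu, q4, q2, hvv, hvu, hQv] at q5
  have key : (e * Q u) * f r r = 0 := by
    linear_combination (e * Q u) * htt + p5 - q5
  rcases mul_eq_zero.1 key with h1 | h1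
  · exact mul_ne_zero he0 (hQne u hu0 huu) h1
  · exact hrr h1

end

/-- the outcome of `S5948` for a proper subgroup of `Ω(Q)` : only extension field groups -/
theorem ext_of_outcome [Finite F] {d : ℕ} (hn : 5 ≤ Fintype.card ι) {Q : (ι → F) → F}
    (hQ : IsNondegenerateQuadraticForm Q) {H : Subgroup (GL ι F)} (hle : H ≤ omegaGL Q) (hne : H ≠ omegaGL Q)
    (h : Ext d H ∨ specialLinear ι F ≤ H ∨
      (∃ f : (ι → F) → (ι → F) → F, IsSymplecticForm f ∧ ∀ x : GL ι F, FixesForm {(x : Matrix ι ι F)} f → x ∈ H) ∨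
      (∃ (τ : F ≃+* F) (f : (ι → F) → (ι → F) → F), IsUnitaryForm τ f ∧
        ∀ x : GL ι F, FixesForm {(x : Matrix ι ι F)} f → Matrix.GeneralLinearGroup.det x = 1 → x ∈ H) ∨
      (∃ Q : (ι → F) → F, IsNondegenerateQuadraticForm Q ∧ omegaGL Q ≤ H)) : Ext d H := by
  have hone : Nonempty ι := Fintype.card_pos_iff.1 (by omega)
  have hmem : ∀ x ∈ H, ∀ v, Q ((x : Matrix ι ι F) *ᵥ v) = Q v := fun x hx v =>
    H925.Nat.omegaGL_fixes Q _ ⟨x, hle hx, rfl⟩ v
  rcases h with h | h | ⟨f', hf', h⟩ | ⟨τ, f', hf', h⟩ | ⟨Q', hQ', h⟩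
  · exact h
  · exfalso
    refine H905.not_sl_le_quadSimilarityGroup (by omega) hQ fun x hx => ?_
    exact ⟨1, fun v => by rw [Units.val_one, one_mul]; exact hmem x (h hx) v⟩
  · exact (symp_quad_false (by omega) hQ hf' fun x hx => hmem x (h x hx)).elim
  · exact (unit_quad_false (by omega) hQ hf' fun x hx hd => hmem x (h x hx hd)).elim
  · exfalso
    apply hne
    have h1 : FixesQuadForm (matrixSet (omegaGL Q')) Q := by
      rintro _ ⟨x, hx, rfl⟩ v
      exact hmem x (h hx) v
    obtain ⟨c, hc, h2⟩ := H925.Nat.quad_prop (H925.Nat.omegaGL_absIrr hQ' hn) hQ' hQ (H925.Nat.omegaGL_fixes Q') h1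
    have h3 : omegaGL Q = omegaGL Q' := H925.Nat.omegaGL_smul hc h2
    exact le_antisymm hle (h3 ▸ h)

/-- **OG-O** (`q` odd, or the dimension even); `hP` is the text of `S5948`. -/
theorem og_o (hP : H659.CovCore.S5948Stmt.{u}) [Fintype F] {k : ℕ} {Q : (ι → F) → F}
    (hQ : IsNondegenerateQuadraticForm Q) {H : Subgroup (GL ι F)} (hle : H ≤ omegaGL Q) (hne : H ≠ omegaGL Q)
    {g : GL ι F} (hg : g ∈ H) (hnum : Num (Fintype.card F) (Fintype.card ι) k (orderOf g)) :
    Red H ∨ Ext (Nat.gcd (Fintype.card ι) k) H := by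
  by_cases hred : Red H
  · exact Or.inl hred
  · exact Or.inr (ext_of_outcome (by have := hnum.ten; omega) hQ hle hne (H659.CovCore.core hP hg hnum hred))

end Cfsg.Agent.H558.Cov
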